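import Groth.Agent.FibDim.GenerizeDim
import Groth.Agent.DimFormula.ClosedSub
import Mathlib.AlgebraicGeometry.IdealSheaf.Subscheme

/-! Components of the source which are equidimensional over the base at a point. -/

set_option autoImplicit false

open AlgebraicGeometry CategoryTheory Topology

namespace Groth.Agent.EquidimComp

universe u

variable {X Y : Scheme.{u}} (f : X ⟶ Y) [LocallyOfFiniteType f]

open Groth.Agent.FibDim

theorem isEquidimAt_component {x η : X} (hη : η ⤳ x) (hmax : ∀ z, z ⤳ η → z = η)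
    (hfη : ∀ y, y ⤳ f η → y = f η) (V : X.Opens) (hx : x ∈ V) (hV : ∀ z ∈ V, rd f z ≤ rd f η) :
    ∃ W : TopologicalSpace.Closeds X, (W : Set X) ∈ irreducibleComponents (X : Type u) ∧
      ∃ w : ↥((Scheme.IdealSheafData.vanishingIdeal W).subscheme),
        (Scheme.IdealSheafData.vanishingIdeal W).subschemeι.base w = x ∧
        EGA43.IsEquidimAt ((Scheme.IdealSheafData.vanishingIdeal W).subschemeι ≫ f) w := by
  let W : TopologicalSpace.Closeds X := ⟨closure {η}, isClosed_closure⟩
  let j := (Scheme.IdealSheafData.vanishingIdeal W).subschemeι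
  have hr : Set.range j = closure {η} := by
    rw [Scheme.IdealSheafData.range_subschemeι, Scheme.IdealSheafData.coe_support_vanishingIdeal]
    rfl
  have hlift : ∀ z, η ⤳ z → ∃ a, j a = z := fun z hz => by
    have : z ∈ Set.range j := hr ▸ specializes_iff_mem_closure.1 hz
    exact this
  obtain ⟨η', hη'⟩ := hlift η specializes_rfl
  obtain ⟨w, hw⟩ := hlift x hη
  have hgen : ∀ a, η' ⤳ a := fun a => by
    rw [← j.isClosedEmbedding.isInducing.specializes_iff, hη', specializes_iff_mem_closure, ← hr]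
    exact ⟨a, rfl⟩
  refine ⟨W, FDescent.closure_mem_irreducibleComponents hmax, w, hw,
    (isEquidimAt_iff (j ≫ f) w).2 ⟨rd f η, j ⁻¹ᵁ V, show j w ∈ V from hw ▸ hx, ?_, ?_⟩⟩
  · intro a _ ha
    obtain rfl : η' = a := ha _ (hgen a)
    refine ⟨fun y hy => ?_, (hgen w).map (j ≫ f).continuous⟩
    rw [Scheme.Hom.comp_apply, hη'] at hy ⊢
    exact hfη y hy
  · intro z hz hm
    obtain ⟨z', -, hz'z, hfz', hle⟩ := exists_rd_ge (j ≫ f) (hgen z)
    obtain rfl := hm z' hz'z hfz'
    rw [DimFormula.rd_closedSub, DimFormula.rd_closedSub, hη'] at hle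
    rw [DimFormula.rd_closedSub]
    exact le_antisymm (hV _ hz) hle

/-- equidimensional at `x` gives a component through `x` equidimensional at `x` -/
theorem component_of_equidim {x : X} (h : EGA43.IsEquidimAt f x) :
    ∃ W : TopologicalSpace.Closeds X, (W : Set X) ∈ irreducibleComponents (X : Type u) ∧
      ∃ w : ↥((Scheme.IdealSheafData.vanishingIdeal W).subscheme),
        (Scheme.IdealSheafData.vanishingIdeal W).subschemeι.base w = x ∧
        EGA43.IsEquidimAt ((Scheme.IdealSheafData.vanishingIdeal W).subschemeι ≫ f) w := by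
  obtain ⟨e, U, hxU, h1, h2⟩ := (isEquidimAt_iff f x).1 h
  obtain ⟨η, hη, hmax⟩ := exists_maximal_generization x
  have hηU : η ∈ U := hη.mem_open U.isOpen hxU
  refine isEquidimAt_component f hη hmax (h1 η hηU hmax).1 U hxU fun z hz => ?_
  obtain ⟨v, hv, hfv, hm, he⟩ := exists_fibMax_generization f z
  rw [h2 η hηU (fibMax_of_maximal f hmax), ← h2 v (hv.mem_open U.isOpen hz) hm]
  exact rd_le_of_specializes f hv hfv

/-- if the top point of the fibre through `x` lies on a good component then so does `x` -/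
theorem component_of_top {x z η : X} (hz : z ⤳ x) (htop : FlatMor.fibreDimAt f x ≤ (rd f z : ℕ))
    (hη : η ⤳ z) (hmax : ∀ t, t ⤳ η → t = η) (hfη : ∀ y, y ⤳ f η → y = f η)
    (hr : rd f η = rd f z) :
    ∃ W : TopologicalSpace.Closeds X, (W : Set X) ∈ irreducibleComponents (X : Type u) ∧
      ∃ w : ↥((Scheme.IdealSheafData.vanishingIdeal W).subscheme),
        (Scheme.IdealSheafData.vanishingIdeal W).subschemeι.base w = x ∧
        EGA43.IsEquidimAt ((Scheme.IdealSheafData.vanishingIdeal W).subschemeι ≫ f) w := by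
  obtain ⟨V, hxV, hV⟩ := exists_nhd_rd_le f x (rd f z) htop
  exact isEquidimAt_component f (hη.trans hz) hmax hfη V hxV fun v hv => hr ▸ hV v hv

theorem exists_witness_of_univOpen [UniversallyOpen f] {z : X} (hz : FibMax f z) :
    ∃ η, η ⤳ z ∧ (∀ t, t ⤳ η → t = η) ∧ (∀ y, y ⤳ f η → y = f η) ∧ rd f η = rd f z := by
  obtain ⟨y, hy, hymax⟩ := exists_maximal_generization (f z)
  have hu : EGA43.IsUnivOpenAt f z := fun Y' g x' _ U hU =>
    haveI : UniversallyOpen (Limits.pullback.snd f g) := inferInstance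
    (Limits.pullback.snd f g).isOpenMap.image_mem_nhds hU
  obtain ⟨ζ, hζ, hfζ, hrd, hm⟩ := exists_generization_of_dim_ge f hz hy fun U hU => by
    obtain ⟨v, hvU, hfv, hle⟩ := exists_rd_ge_of_univOpenAt f hu U hU hy
    rw [dim_open_inter_eq_iSup f y U.isOpen, fibreDimAt_eq_rd f hz]
    exact le_trans (WithBot.coe_le_coe.2 (Nat.cast_le.2 hle))
      (le_iSup (fun v : ↥((U : Set X) ∩ f ⁻¹' {y}) => ((rd f v.1 : ℕ∞) : WithBot ℕ∞)) ⟨v, hvU, hfv⟩)
  refine ⟨ζ, hζ, fun t ht => hm t ht ?_, hfζ ▸ hymax, hrd⟩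
  rw [hfζ]
  exact hymax _ (hfζ ▸ ht.map f.continuous)

end Groth.Agent.EquidimComp
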